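import Cfsg.Agent.H120.StSeven
import Cfsg.Agent.H129.StCover
import Cfsg.Agent.Prune
set_option linter.all false
open scoped Cfsg.Agent.FastGrp

/-!
# The 56-dimensional module of `E₇` inside the Lie algebra of type `E₈`

`D1` : the 56 roots of type `E₈` with last coordinate 1; `blk` : the corresponding block of a matrix;
`rho` : the representation of the presented group of type `E₇` on the block.
-/

set_option autoImplicit false

namespace Cfsg.Agent.H943.E7V.Block

open Cfsg.Lie Cfsg.Agent.KFacts.En.Roots Cfsg.Agent.ChevalleyStructure.Elts Cfsg.Agent.ChevalleyStructure.RootVec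
  Cfsg.Agent.ChevalleyStructure.RootVecTab Cfsg.Agent.ChevalleyStructure.CoxeterGeomTypes
  Cfsg.Agent.ChevalleyStructure Cfsg.Agent.ChevalleyStructure.StTheta Cfsg.Agent.ChevalleyStructure.StEmbed
  Cfsg.Agent.ChevalleyStructure.StBasic
  Cfsg.Agent.Nodes.RGDChev Cfsg.Agent.H120.StSeven

/-- the roots of degree 1 -/
abbrev D1 : Type := {s : Fin chevE8.nroots // rt chevE8 (s : ℕ) 7 = 1}

/-- the basis vector of a root of degree 1 -/
abbrev pt (c : D1) : chevE8.Idx := Sum.inr c.1

theorem pt_inj : Function.Injective pt := fun _ _ h => Subtype.ext (Sum.inr.inj h)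

theorem card_D1 : Fintype.card D1 = 56 := by
  rw [Fintype.card_subtype]
  decide +kernel

section Mat

variable {K : Type*} [CommRing K]

/-- the matrix preserves the span of the root vectors of degree 1 -/
def Pres (M : Matrix chevE8.Idx chevE8.Idx K) : Prop := ∀ (c : D1) (r : chevE8.Idx), M r (pt c) ≠ 0 → ∃ d : D1, r = pt d

/-- the block -/
def blk (M : Matrix chevE8.Idx chevE8.Idx K) : Matrix D1 D1 K := M.submatrix pt pt

theorem sum_pt {f : chevE8.Idx → K} (h : ∀ r, f r ≠ 0 → ∃ d : D1, r = pt d) : ∑ r, f r = ∑ d : D1, f (pt d) := by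
  classical
  have h1 : ∑ d : D1, f (pt d) = ∑ r ∈ Finset.univ.map ⟨pt, pt_inj⟩, f r := (Finset.sum_map Finset.univ ⟨pt, pt_inj⟩ f).symm
  rw [h1]
  symm
  refine Finset.sum_subset (Finset.subset_univ _) fun r _ hr => ?_
  by_contra h0
  obtain ⟨d, rfl⟩ := h r h0
  exact hr (Finset.mem_map.2 ⟨d, Finset.mem_univ _, rfl⟩)

theorem mul_pt (M : Matrix chevE8.Idx chevE8.Idx K) {N : Matrix chevE8.Idx chevE8.Idx K} (hN : Pres N)
    (r : chevE8.Idx) (c : D1) : (M * N) r (pt c) = ∑ d : D1, M r (pt d) * N (pt d) (pt c) := by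
  rw [Matrix.mul_apply]
  refine sum_pt fun s hs => hN c s fun h0 => hs ?_
  rw [h0, mul_zero]

theorem blk_mul (M : Matrix chevE8.Idx chevE8.Idx K) {N : Matrix chevE8.Idx chevE8.Idx K} (hN : Pres N) :
    blk (M * N) = blk M * blk N := by
  ext a b
  rw [Matrix.mul_apply]
  exact mul_pt M hN (pt a) b

theorem Pres.mul {M N : Matrix chevE8.Idx chevE8.Idx K} (hM : Pres M) (hN : Pres N) : Pres (M * N) := by
  intro c r h
  rw [mul_pt M hN r c] at h
  obtain ⟨d, -, hd⟩ := Finset.exists_ne_zero_of_sum_ne_zero h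
  exact hM d r (left_ne_zero_of_mul hd)

theorem Pres.one : Pres (1 : Matrix chevE8.Idx chevE8.Idx K) := by
  intro c r h
  refine ⟨c, ?_⟩
  by_contra h0
  exact h (Matrix.one_apply_ne h0)

theorem blk_one : blk (1 : Matrix chevE8.Idx chevE8.Idx K) = 1 := by
  ext a b
  show (1 : Matrix chevE8.Idx chevE8.Idx K) (pt a) (pt b) = (1 : Matrix D1 D1 K) a b
  rw [Matrix.one_apply, Matrix.one_apply]
  simp only [pt_inj.eq_iff]

theorem blk_map {L : Type*} [CommRing L] (f : K →+* L) (M : Matrix chevE8.Idx chevE8.Idx K) :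
    blk (M.map f) = (blk M).map f := rfl

end Mat

/-! ### the generators -/

theorem chainCoeff_grade {D : ChevalleyDatum} (h : Checked D) {r s u : ℕ} (hne : D.chainCoeff r s u ≠ []) :
    ∃ k : ℕ, ∀ i, rt D u i = rt D s i + (k : ℤ) * rt D r i := by
  obtain ⟨x, hx⟩ := List.exists_mem_of_ne_nil _ hne
  unfold ChevalleyDatum.chainCoeff at hx
  rw [List.mem_flatMap] at hx
  obtain ⟨e, he, hx⟩ := hx
  rw [List.mem_filter, decide_eq_true_iff] at he
  rw [List.mem_map] at hx
  obtain ⟨q, hq, -⟩ := hx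
  rw [List.mem_filter, decide_eq_true_iff] at hq
  obtain ⟨hq1, hq2⟩ := hq
  have h1 : e.2.toList[q.2]? = some q.1 := List.mem_zipIdx_iff_getElem?.1 hq1
  obtain ⟨-, h2⟩ := row_entry h (e := e) he.1 h1
  exact ⟨q.2 + 1, fun i => by rw [← hq2, ← he.2]; exact h2 i⟩

theorem x_grade {D : ChevalleyDatum} (h : Checked D) {K : Type*} [Field K] {r : ℕ} {i : ℕ} (h0 : rt D r i = 0) (t : K)
    {s : Fin D.nroots} (hs : rt D s i = 1) {row : D.Idx} (hne : D.x K r t row (Sum.inr s) ≠ 0) :
    ∃ d : Fin D.nroots, rt D d i = 1 ∧ row = Sum.inr d := by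
  by_cases hr : r < D.nroots
  swap
  · rw [x_of_not_lt hr] at hne
    refine ⟨s, hs, ?_⟩
    by_contra h1
    exact hne (Matrix.one_apply_ne h1)
  unfold ChevalleyDatum.x at hne
  rw [dif_pos hr] at hne
  have h1 : s ≠ ⟨r, hr⟩ := by
    rintro rfl
    rw [h0] at hs
    exact absurd hs (by norm_num)
  have h2 : ¬ (s : ℕ) = D.negIdx.getD r 0 := by
    intro h2
    have h3 := rt_neg h hr i
    rw [h0] at h3
    change rt D (D.negIdx.getD r 0) i = _ at h3
    rw [← h2, hs] at h3
    exact absurd h3 (by norm_num)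
  unfold ChevalleyDatum.xMat at hne
  rw [Matrix.of_apply] at hne
  simp only [if_neg h1, if_neg h2] at hne
  rcases row with j | u
  · exact absurd rfl hne
  · by_cases hu : u = s
    · exact ⟨s, hs, by rw [hu]⟩
    · simp only [if_neg hu, zero_add] at hne
      have h3 : D.chainCoeff r s u ≠ [] := by
        intro h4
        rw [h4] at hne
        exact hne (by simp)
      obtain ⟨k, hk⟩ := chainCoeff_grade h h3
      have h4 := hk i
      rw [h0, hs, mul_zero, add_zero] at h4
      exact ⟨u, h4, rfl⟩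

theorem pres_x {K : Type*} [Field K] {r : ℕ} (h0 : rt chevE8 r 7 = 0) (t : K) : Pres (chevE8.x K r t) := by
  rintro ⟨s, hs⟩ row h
  obtain ⟨d, hd, rfl⟩ := x_grade checked_E8 h0 t hs h
  exact ⟨⟨d, hd⟩, rfl⟩

/-! ### the group of matrices preserving the block -/

section Rep

variable (K : Type*) [Field K]

/-- the invertible matrices preserving the span of the root vectors of degree 1 -/
def PG : Subgroup (GL chevE8.Idx K) where
  carrier := {g | Pres (g : Matrix chevE8.Idx chevE8.Idx K) ∧ Pres ((g⁻¹ : GL chevE8.Idx K) : Matrix chevE8.Idx chevE8.Idx K)}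
  one_mem' := by
    refine ⟨?_, ?_⟩
    · rw [Units.val_one]; exact Pres.one
    · rw [inv_one, Units.val_one]; exact Pres.one
  mul_mem' := by
    rintro a b ⟨ha, ha'⟩ ⟨hb, hb'⟩
    refine ⟨?_, ?_⟩
    · rw [Units.val_mul]; exact ha.mul hb
    · rw [mul_inv_rev, Units.val_mul]; exact hb'.mul ha'
  inv_mem' := by
    rintro a ⟨ha, ha'⟩
    exact ⟨ha', by rw [inv_inv]; exact ha⟩

variable {K}

theorem xG_mem {r : ℕ} (h0 : rt chevE8 r 7 = 0) (t : K) : xG ty_E8.ty.inList r t ∈ PG K := by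
  refine ⟨pres_x h0 t, ?_⟩
  show Pres (chevE8.x K r (-t))
  exact pres_x h0 _

theorem grade_iota : ∀ r < chevE7.nroots, rt chevE8 (ι78 r) 7 = 0 := by decide +kernel

variable (K)

theorem alpha_mem (x : chevE7.SteinbergGroup K) : ((alpha K x : ↥(chevE8.group K)) : GL chevE8.Idx K) ∈ PG K := by
  have h : (⊤ : Subgroup (chevE7.SteinbergGroup K)) ≤ (PG K).comap ((chevE8.group K).subtype.comp (alpha K)) := by
    rw [← PresentedGroup.closure_range_of, Subgroup.closure_le]
    rintro _ ⟨⟨⟨r, hr⟩, t⟩, rfl⟩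
    show ((alpha K _ : ↥(chevE8.group K)) : GL chevE8.Idx K) ∈ PG K
    have h1 : (PresentedGroup.of ((⟨r, hr⟩, t)) : chevE7.SteinbergGroup K) = chevE7.stGen K r t :=
      (stGen_of_lt chevE7 hr t).symm
    rw [h1]
    have h2 : ((alpha K (chevE7.stGen K r t) : ↥(chevE8.group K)) : GL chevE8.Idx K) = xG ty_E8.ty.inList (ι78 r) t := by
      show ((theta ty_E8.ty.inList K (hom emb78 K (chevE7.stGen K r t)) : ↥(chevE8.group K)) : GL chevE8.Idx K) = _
      rw [hom_stGen emb78 hr, coe_theta, thetaGL_stGen]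
    rw [h2]
    exact xG_mem (grade_iota r hr) t
  exact h (Subgroup.mem_top x)

/-- the representation on the block -/
noncomputable def rho : chevE7.SteinbergGroup K →* Matrix D1 D1 K where
  toFun x := blk (((alpha K x : ↥(chevE8.group K)) : GL chevE8.Idx K) : Matrix chevE8.Idx chevE8.Idx K)
  map_one' := by
    rw [map_one, Subgroup.coe_one, Units.val_one]
    exact blk_one
  map_mul' x y := by
    rw [map_mul, Subgroup.coe_mul, Units.val_mul]
    exact blk_mul _ (alpha_mem K y).1

theorem rho_apply (x : chevE7.SteinbergGroup K) :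
    rho K x = blk (((alpha K x : ↥(chevE8.group K)) : GL chevE8.Idx K) : Matrix chevE8.Idx chevE8.Idx K) := rfl

end Rep

end Cfsg.Agent.H943.E7V.Block
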