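import Cfsg.Agent.H943.E7V.Block
import Cfsg.Agent.H944.E7Two
import Cfsg.Agent.ChevFast.E7
import Cfsg.Agent.ChevFast.E8
import Cfsg.Agent.H129.PhiE
import Cfsg.Agent.BpExc.AsmN_m3
import Cfsg.Agent.Prune
set_option linter.all false

section
prune_inst 0x7f00000000000000000000000000000000000000000000000000000000000000000000000000000000000000000000000000000000000000000000000000000000000000000000000000000000000000003fffffffffffffffffffffffffffbeffbdffffffff

-- part: H943/E7V/Wt
section
set_option linter.all false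
open scoped Cfsg.Agent.FastGrp

/-!
# The weights of the 56-dimensional module of `E₇`

`wv v s` : the value of twice the weight of the root `s` of degree 1 on a vector `v` of values on the simple roots;
`ms56 v` : the multiset of these values, invariant under the simple reflections (`ms56_srefl`).
-/

set_option autoImplicit false
set_option maxRecDepth 100000

namespace Cfsg.Agent.H943.E7V.Wt

open Cfsg.Agent.ChevalleyStructure.CoxeterGeom Cfsg.Agent.Tits.Roots
  Cfsg.Agent.Nodes.RGDChev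
open Cfsg.Lie Cfsg.Agent.ChevalleyStructure Cfsg.Agent.ChevalleyStructure.Elts
  Cfsg.Agent.ChevalleyStructure.RootVec Cfsg.Agent.ChevalleyStructure.RootVecTab
  Cfsg.Agent.ChevalleyStructure.NPerm Cfsg.Agent.ChevalleyStructure.CoxeterGeomTypes
open Cfsg.Agent.H944.RootVals Cfsg.Agent.H944.Kac Cfsg.Agent.H944.Tab Cfsg.Agent.H944.E7Two
open Cfsg.Agent.H943.E7V.Block

/-- twice the coordinates of the highest weight -/
def w7 : List ℤ := [2, 3, 4, 6, 5, 4, 3]

/-- twice the coordinates of the weight of the root `s` -/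
def cc (s j : ℕ) : ℤ := 2 * rt chevE8 s j - w7.getD j 0

/-- the value of twice the weight -/
def wv {R : Type*} [CommRing R] (v : Fin 7 → R) (s : ℕ) : R := ∑ i : Fin 7, ((cc s i : ℤ) : R) * v i

/-- the multiset of the values of twice the weights -/
def ms56 {R : Type*} [CommRing R] (v : Fin 7 → R) : Multiset R := (Finset.univ : Finset D1).val.map fun s : D1 => wv v (s : Fin chevE8.nroots)

theorem card_ms56 {R : Type*} [CommRing R] (v : Fin 7 → R) : Multiset.card (ms56 v) = 56 := by
  rw [ms56, Multiset.card_map]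
  exact card_D1

theorem pair_eq : ∀ s < chevE8.nroots, rt chevE8 s 7 = 1 → ∀ i < 7,
    ((List.range 7).map fun j => cc s j * chevE7.cartan i (chevE7.simple j)).sum = 2 * chevE8.cartan i s := by
  (rewrite [Cfsg.Agent.ChevFast.E7.cartan, Cfsg.Agent.ChevFast.E8.cartan]; decide +kernel)

theorem pair_eq' (s : D1) (i : Fin 7) : ∑ j : Fin 7, cc (s : Fin chevE8.nroots) j * chevE7.cartan i (chevE7.simple j) =
    2 * chevE8.cartan i (s : Fin chevE8.nroots) := by
  have h := pair_eq s.1 s.1.2 s.2 i i.2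
  rw [← h]
  simp [Fin.sum_univ_seven, List.range_succ]
  ring

/-! ### reflections -/

theorem refl_rt (j : Fin 7) {s : ℕ} (hs : s < chevE8.nroots) : chevE8.reflectRoot j s < chevE8.nroots ∧
    ∀ i, rt chevE8 (chevE8.reflectRoot j s) i = rt chevE8 s i - chevE8.cartan j s * (if i = j then 1 else 0) :=
  reflectRoot_rt checked_E8 (show (j : ℕ) < 8 by omega) hs

/-- the reflection on the roots of degree 1 -/
def rf (j : Fin 7) (s : D1) : D1 := ⟨⟨chevE8.reflectRoot j s.1, (refl_rt j s.1.2).1⟩, by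
  show rt chevE8 (chevE8.reflectRoot j s.1) 7 = 1
  rw [(refl_rt j s.1.2).2, s.2, if_neg (by omega), mul_zero, sub_zero]⟩

theorem e8T : IsType chevE8 8 CoxeterMatrix.E₈ := by simp [IsType, typeList]

theorem rf_bij (j : Fin 7) : Function.Bijective (rf j) := by
  rw [Finite.injective_iff_bijective.symm]
  intro s t h
  have h1 : chevE8.reflectRoot (j.castSucc : Fin 8) s.1 = chevE8.reflectRoot (j.castSucc : Fin 8) t.1 :=
    congrArg (fun x : D1 => ((x : Fin chevE8.nroots) : ℕ)) h
  exact Subtype.ext ((reflect_bij e8T j.castSucc).1 (Fin.ext h1))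

theorem wv_srefl {R : Type*} [CommRing R] (j : Fin 7) (v : Fin 7 → R) (s : D1) :
    wv (srefl chevE7 7 j v) (s : Fin chevE8.nroots) = wv v ((rf j s : D1) : Fin chevE8.nroots) := by
  unfold wv srefl
  have h1 : ∀ i : Fin 7, ((cc ((rf j s : D1) : Fin chevE8.nroots) i : ℤ) : R) * v i =
      ((cc (s : Fin chevE8.nroots) i : ℤ) : R) * v i - ((2 * chevE8.cartan j (s : Fin chevE8.nroots) : ℤ) : R) * (if i = j then v i else 0) := by
    intro i
    have h2 : cc ((rf j s : D1) : Fin chevE8.nroots) i = cc (s : Fin chevE8.nroots) i -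
        2 * chevE8.cartan j (s : Fin chevE8.nroots) * (if i = j then 1 else 0) := by
      have h3 := (refl_rt j s.1.2).2 i
      show 2 * rt chevE8 (chevE8.reflectRoot j s.1) i - _ = 2 * rt chevE8 s.1 i - _ - _
      rw [h3]
      simp only [Fin.ext_iff]
      ring
    rw [h2]
    split_ifs <;> push_cast <;> ring
  simp only [h1, mul_sub]
  rw [Finset.sum_sub_distrib, Finset.sum_sub_distrib, ← Finset.mul_sum]
  congr 1
  rw [Finset.sum_ite_eq' Finset.univ j v, if_pos (Finset.mem_univ j), ← pair_eq' s j]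
  push_cast
  rw [Finset.sum_mul]
  refine Finset.sum_congr rfl fun i _ => ?_
  rw [cartanOf_def]
  ring

theorem ms56_srefl {R : Type*} [CommRing R] (j : Fin 7) (v : Fin 7 → R) : ms56 (srefl chevE7 7 j v) = ms56 v := by
  have h1 := Multiset.map_univ_val_equiv (Equiv.ofBijective _ (rf_bij j))
  conv_rhs => rw [ms56, ← h1, Multiset.map_map]
  unfold ms56
  refine Multiset.map_congr rfl fun s _ => ?_
  rw [wv_srefl j v s]
  rfl

/-! ### the table -/

/-- half of the weights (doubled), as pairs of positive and negative part -/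
def W28 : List (List ℕ × List ℕ) :=
  [([0, 1, 0, 0, 0, 0, 0], [0, 0, 0, 0, 1, 2, 1]),
   ([0, 1, 0, 0, 0, 0, 0], [0, 0, 0, 0, 1, 0, 1]),
   ([0, 1, 0, 0, 0, 0, 1], [0, 0, 0, 0, 1, 0, 0]),
   ([0, 1, 0, 0, 1, 0, 0], [0, 0, 0, 0, 0, 0, 1]),
   ([0, 1, 0, 0, 1, 0, 1], [0, 0, 0, 0, 0, 0, 0]),
   ([0, 1, 0, 0, 1, 2, 1], [0, 0, 0, 0, 0, 0, 0]),
   ([0, 1, 0, 2, 1, 0, 0], [0, 0, 0, 0, 0, 0, 1]),
   ([0, 1, 0, 2, 1, 0, 1], [0, 0, 0, 0, 0, 0, 0]),
   ([0, 1, 0, 2, 1, 2, 1], [0, 0, 0, 0, 0, 0, 0]),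
   ([0, 1, 0, 2, 3, 2, 1], [0, 0, 0, 0, 0, 0, 0]),
   ([0, 1, 2, 2, 1, 0, 0], [0, 0, 0, 0, 0, 0, 1]),
   ([0, 1, 2, 2, 1, 0, 1], [0, 0, 0, 0, 0, 0, 0]),
   ([0, 1, 2, 2, 1, 2, 1], [0, 0, 0, 0, 0, 0, 0]),
   ([0, 1, 2, 2, 3, 2, 1], [0, 0, 0, 0, 0, 0, 0]),
   ([0, 1, 2, 4, 3, 2, 1], [0, 0, 0, 0, 0, 0, 0]),
   ([0, 3, 2, 4, 3, 2, 1], [0, 0, 0, 0, 0, 0, 0]),
   ([2, 1, 2, 2, 1, 0, 0], [0, 0, 0, 0, 0, 0, 1]),
   ([2, 1, 2, 2, 1, 0, 1], [0, 0, 0, 0, 0, 0, 0]),
   ([2, 1, 2, 2, 1, 2, 1], [0, 0, 0, 0, 0, 0, 0]),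
   ([2, 1, 2, 2, 3, 2, 1], [0, 0, 0, 0, 0, 0, 0]),
   ([2, 1, 2, 4, 3, 2, 1], [0, 0, 0, 0, 0, 0, 0]),
   ([2, 1, 4, 4, 3, 2, 1], [0, 0, 0, 0, 0, 0, 0]),
   ([2, 3, 2, 4, 3, 2, 1], [0, 0, 0, 0, 0, 0, 0]),
   ([2, 3, 4, 4, 3, 2, 1], [0, 0, 0, 0, 0, 0, 0]),
   ([2, 3, 4, 6, 3, 2, 1], [0, 0, 0, 0, 0, 0, 0]),
   ([2, 3, 4, 6, 5, 2, 1], [0, 0, 0, 0, 0, 0, 0]),
   ([2, 3, 4, 6, 5, 4, 1], [0, 0, 0, 0, 0, 0, 0]),
   ([2, 3, 4, 6, 5, 4, 3], [0, 0, 0, 0, 0, 0, 0])]

/-- the coordinates of a pair -/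
def crd (w : List ℕ × List ℕ) (j : ℕ) : ℤ := (w.1.getD j 0 : ℤ) - (w.2.getD j 0 : ℤ)

theorem tabW : ((List.finRange chevE8.nroots).filter fun s : Fin chevE8.nroots => decide (rt chevE8 s 7 = 1)).map
      (fun s => (List.range 7).map fun j => cc s j) =
    (W28.reverse.map fun w => (List.range 7).map fun j => - crd w j) ++ W28.map fun w => (List.range 7).map fun j => crd w j := by
  decide +kernel

/-- the value of a pair -/
def wl {R : Type*} [CommRing R] (w : List ℕ × List ℕ) (v : Fin 7 → R) : R := ∑ i : Fin 7, ((crd w i : ℤ) : R) * v i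

theorem ms56_tab {R : Type*} [CommRing R] (v : Fin 7 → R) :
    ms56 v = ((W28.map fun w => wl w v : List R) : Multiset R) + ((W28.map fun w => - wl w v : List R) : Multiset R) := by
  have h1 : ms56 v = ((((List.finRange chevE8.nroots).filter fun s : Fin chevE8.nroots =>
      decide (rt chevE8 s 7 = 1)).map fun s : Fin chevE8.nroots => wv v s : List R) : Multiset R) := by
    have h2 : (Finset.univ : Finset D1).val.map (fun s : D1 => (s : Fin chevE8.nroots)) =
        (((List.finRange chevE8.nroots).filter fun s : Fin chevE8.nroots => decide (rt chevE8 s 7 = 1) :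
          List (Fin chevE8.nroots)) : Multiset (Fin chevE8.nroots)) := by
      have h3 : (Finset.univ : Finset D1).map (Function.Embedding.subtype _) =
          (Finset.univ : Finset (Fin chevE8.nroots)).filter fun s : Fin chevE8.nroots => rt chevE8 s 7 = 1 := by
        ext x
        simp
      have h4 := congrArg Finset.val h3
      rw [Finset.map_val] at h4
      exact h4
    rw [← Multiset.map_coe, ← h2, Multiset.map_map]
    rfl
  have h3 : ∀ s : Fin chevE8.nroots, wv v (s : ℕ) =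
      (fun t : List ℤ => ∑ i : Fin 7, ((t.getD i 0 : ℤ) : R) * v i) ((List.range 7).map fun j => cc s j) := by
    intro s
    unfold wv
    refine Finset.sum_congr rfl fun i _ => ?_
    congr 2
    rw [List.getD_eq_getElem _ _ (by simp)]
    simp
  have h4 : ((List.finRange chevE8.nroots).filter fun s : Fin chevE8.nroots =>
      decide (rt chevE8 s 7 = 1)).map (fun s : Fin chevE8.nroots => wv v (s : ℕ)) =
      (((List.finRange chevE8.nroots).filter fun s : Fin chevE8.nroots => decide (rt chevE8 s 7 = 1)).map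
      (fun s => (List.range 7).map fun j => cc s j)).map (fun t : List ℤ => ∑ i : Fin 7, ((t.getD i 0 : ℤ) : R) * v i) := by
    rw [List.map_map]
    exact List.map_congr_left fun s _ => h3 s
  rw [h1, h4, tabW, List.map_append, List.map_map, List.map_map, ← Multiset.coe_add, add_comm]
  have h5 : (fun t : List ℤ => ∑ i : Fin 7, ((t.getD i 0 : ℤ) : R) * v i) ∘
      (fun w : List ℕ × List ℕ => (List.range 7).map fun j => crd w j) = fun w => wl w v := by
    funext w
    simp only [Function.comp_apply]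
    unfold wl
    refine Finset.sum_congr rfl fun i _ => ?_
    congr 2
    rw [List.getD_eq_getElem _ _ (by simp)]
    simp
  have h6 : (fun t : List ℤ => ∑ i : Fin 7, ((t.getD i 0 : ℤ) : R) * v i) ∘
      (fun w : List ℕ × List ℕ => (List.range 7).map fun j => - crd w j) = fun w => - wl w v := by
    funext w
    simp only [Function.comp_apply]
    unfold wl
    rw [← Finset.sum_neg_distrib]
    refine Finset.sum_congr rfl fun i _ => ?_
    rw [List.getD_eq_getElem _ _ (by simp)]
    simp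
  rw [h5, h6, List.map_reverse]
  congr 1
  exact Multiset.coe_eq_coe.2 (List.reverse_perm _)

end Cfsg.Agent.H943.E7V.Wt

private theorem dce_3363b7b2bb0d : _root_.True := by
  try have : _root_.True := by simp only [_root_.Cfsg.Agent.H943.E7V.Wt.ms56.eq_1]
  exact _root_.True.intro
end

-- part: H943/E7V/TorMain
section
set_option linter.all false
open scoped Cfsg.Agent.FastGrp

namespace Cfsg.Agent
section
open Cfsg.Agent.H944.Tab (dotN sumH invB hh)

private noncomputable def fS (x : ℕ) (f : ℕ → ℕ) : ℕ := Nat.rec (f 0) (fun n _ => f (Nat.succ n)) x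

private noncomputable def zpS (B : ℕ) (r : List ℕ) : List ℕ → List ℕ :=
  List.rec (fun c => c.map (Nat.mul B)) (fun a _ ih c => Nat.add a (Nat.mul B (c.headD 0)) :: ih c.tail) r

private noncomputable def colS (B : ℕ) (R : List (List ℕ)) : List ℕ := List.rec [] (fun r _ ih => zpS B r ih) R

private noncomputable def pkS (B : ℕ) (y : List ℕ) (R : List (List ℕ)) : ℕ :=
  List.rec 0 (fun r _ ih => dotN r y + B * ih) R

private noncomputable def dgS (h : ℕ → ℕ) (R : List (List ℕ)) : ℕ → ℕ :=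
  List.rec (fun _ => 0) (fun _ _ ih D => Nat.add (fS (Nat.mod D 1048576) h) (ih (Nat.div D 1048576))) R

private noncomputable def sumS (h : ℕ → ℕ) (R : List (List ℕ)) (y : List ℕ) : ℕ :=
  cond (Nat.blt (dotN (colS 1 R) y) 1048576) (dgS h R (dotN (colS 1048576 R) y)) (sumH h R y)

private def gS (N q t : ℕ) : ℕ := Nat.add (hh N t) (Nat.mul 2305843009213693950 (hh N (q * t)))

private noncomputable def invS (N q : ℕ) (R : List (List ℕ)) (y : List ℕ) : Bool :=
  cond (Nat.beq (Nat.mod (sumS (gS N q) R y) 2305843009213693951) 0)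
    (Nat.beq (sumS (hh N) R y) (sumS (fun t => hh N (q * t)) R y)) false

private theorem zpS_dot (B : ℕ) (r : List ℕ) : ∀ c y : List ℕ, dotN (zpS B r c) y = dotN r y + B * dotN c y := by
  have d0 : ∀ y, dotN [] y = 0 := fun y => by cases y <;> rfl
  have d1 : ∀ y, dotN y [] = 0 := fun y => by cases y <;> rfl
  have h0 : ∀ (B : ℕ) (c y : List ℕ), dotN (c.map (Nat.mul B)) y = B * dotN c y := fun B c => by
    induction c with
    | nil => exact fun y => (d0 y).trans (by rw [d0]; rfl)
    | cons b c ih =>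
      intro y
      cases y with
      | nil => exact (d1 _).trans (by rw [d1]; rfl)
      | cons x y =>
        show B * b * x + dotN (c.map (Nat.mul B)) y = B * (b * x + dotN c y)
        rw [ih, Nat.mul_add, Nat.mul_assoc]
  induction r with
  | nil => exact fun c y => (h0 B c y).trans (by rw [d0, Nat.zero_add])
  | cons a r ih =>
    intro c y
    cases y with
    | nil => rw [d1, d1, d1]; rfl
    | cons x y =>
      show (a + B * c.headD 0) * x + dotN (zpS B r c.tail) y = a * x + dotN r y + B * dotN c (x :: y)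
      rw [ih]
      cases c with
      | nil =>
        show (a + B * 0) * x + (dotN r y + B * dotN [] y) = a * x + dotN r y + B * 0
        rw [d0, Nat.mul_zero, Nat.add_zero, Nat.add_zero, Nat.add_zero]
      | cons b c =>
        show (a + B * b) * x + (dotN r y + B * dotN c y) = a * x + dotN r y + B * (b * x + dotN c y)
        rw [Nat.add_mul, Nat.mul_add, Nat.mul_assoc, Nat.add_add_add_comm]

private theorem sumS_eq : sumH = sumS := by
  have h2 : ∀ (B : ℕ) (y : List ℕ) (R : List (List ℕ)), dotN (colS B R) y = pkS B y R := fun B y R => by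
    induction R with
    | nil => cases y <;> rfl
    | cons r R ih => exact (zpS_dot B r (colS B R) y).trans (congrArg (fun z => dotN r y + B * z) ih)
  have h3 : ∀ (h : ℕ → ℕ) (y : List ℕ) (R : List (List ℕ)), pkS 1 y R < 1048576 →
      sumH h R y = dgS h R (pkS 1048576 y R) := fun h y R => by
    induction R with
    | nil => exact fun _ => rfl
    | cons r R ih =>
      intro hl
      have e0 : dotN r y + 1 * pkS 1 y R < 1048576 := hl
      have e1 : (dotN r y + 1048576 * pkS 1048576 y R) % 1048576 = dotN r y := by omega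
      have e2 : (dotN r y + 1048576 * pkS 1048576 y R) / 1048576 = pkS 1048576 y R := by omega
      show h (dotN r y) + sumH h R y = fS ((dotN r y + 1048576 * pkS 1048576 y R) % 1048576) h +
        dgS h R ((dotN r y + 1048576 * pkS 1048576 y R) / 1048576)
      rw [e1, e2, ih (by omega)]
      cases dotN r y <;> rfl
  funext h R y
  delta sumS
  rw [h2, h2]
  cases e : Nat.blt (pkS 1 y R) 1048576 with
  | false => rfl
  | true => exact h3 h y R (Nat.blt_eq.mp e)

private theorem invS_eq : invB = invS := by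
  have h0 : ∀ (N q : ℕ) (y : List ℕ) (R : List (List ℕ)), sumH (gS N q) R y =
      sumH (hh N) R y + 2305843009213693950 * sumH (fun t => hh N (q * t)) R y := fun N q y R => by
    induction R with
    | nil => rfl
    | cons r R ih =>
      show hh N (dotN r y) + 2305843009213693950 * hh N (q * dotN r y) + sumH (gS N q) R y =
        hh N (dotN r y) + sumH (hh N) R y + 2305843009213693950 * (hh N (q * dotN r y) + sumH (fun t => hh N (q * t)) R y)
      rw [ih, Nat.mul_add, Nat.add_add_add_comm]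
  funext N q R y
  delta invS invB
  rw [← sumS_eq, h0]
  cases e : Nat.beq (sumH (hh N) R y) (sumH (fun t => hh N (q * t)) R y) with
  | false => exact (Bool.cond_self _ _).symm
  | true =>
    rw [Nat.eq_of_beq_eq_true e]
    generalize sumH (fun t => hh N (q * t)) R y = s
    rw [show Nat.mod (s + 2305843009213693950 * s) 2305843009213693951 = 0 from
      (show (s + 2305843009213693950 * s) % 2305843009213693951 = 0 by omega)]
    rfl

end

private noncomputable def alS (n : ℕ) (p : ℕ → Bool) : Bool :=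
  Nat.rec true (fun i r => @Bool.rec (fun _ => Bool) false r (p i)) n

private noncomputable def alcS (θ : List ℕ) : ℕ → (List ℕ → Bool) → Bool :=
  List.rec (fun _ p => p []) (fun t _ ih N p => alS (Nat.succ (Nat.div N t)) fun x =>
    ih (Nat.sub N (Nat.mul t x)) fun y => p (x :: y)) θ

private theorem alS_eq (k : ℕ) (p : ℕ → Bool) : (List.range k).all p = alS k p := by
  induction k with
  | zero => rfl
  | succ k ih =>
    rw [List.range_succ, List.all_append, ih, List.all_cons, List.all_nil]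
    show _ = @Bool.rec (fun _ => Bool) false (alS k p) (p k)
    cases p k <;> cases alS k p <;> rfl

private theorem alcS_eq : Cfsg.Agent.H944.Tab.allAlc = alcS := by
  funext θ
  induction θ with
  | nil => rfl
  | cons t θ ih =>
    funext N p
    show (List.range (N / t + 1)).all (fun x => Cfsg.Agent.H944.Tab.allAlc θ (N - t * x) fun y => p (x :: y)) = _
    rw [alS_eq, ih]
    rfl
end Cfsg.Agent

-- part: H943/E7V/Tor
section
/-!
# Semisimple elements of `E₇(2)` on the 56-dimensional module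
-/

set_option autoImplicit false
set_option linter.unusedSectionVars false

namespace Cfsg.Agent.H943.E7V.Tor

open CoxeterSystem Cfsg Cfsg.Lie Cfsg.Lie.ChevalleyDatum
open Cfsg.Agent.ChevalleyStructure Cfsg.Agent.ChevalleyStructure.Elts Cfsg.Agent.ChevalleyStructure.CoxeterGeom
  Cfsg.Agent.ChevalleyStructure.CoxeterGeomTypes Cfsg.Agent.ChevalleyStructure.NPerm
  Cfsg.Agent.ChevalleyStructure.RootVec Cfsg.Agent.ChevalleyStructure.RootVecTab
open Cfsg.Agent.Tits.Roots Cfsg.Agent.Tits.Core Cfsg.Agent.Nodes Cfsg.Agent.Nodes.Reps Cfsg.Agent.Nodes.BNOf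
  Cfsg.Agent.Nodes.RGDChev
open Cfsg.Agent.KFacts.RgdChevCoord Cfsg.Agent.GpExc.Field Cfsg.Agent.H129.TorusUntw
open Cfsg.Agent.ChevalleyStructure.StBasic Cfsg.Agent.ChevalleyStructure.StTheta Cfsg.Agent.ChevalleyStructure.StEmbed
open Cfsg.Agent.H129.StCover Cfsg.Agent.BpExc.TorAll Cfsg.Agent.KFacts.En.Roots Cfsg.Agent.H120.StSeven
open Cfsg.Agent.H944.RootVals Cfsg.Agent.H944.E7Two
open Cfsg.Agent.H943.E7V.Block Cfsg.Agent.H943.E7V.Wt
open Polynomial (X C)

/-! ### the torus -/

section Torus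

variable {K : Type} [Field K]

theorem blk_diagonal (d : chevE8.Idx → K) : blk (Matrix.diagonal d) = Matrix.diagonal fun s : D1 => d (pt s) := by
  ext a b
  show Matrix.diagonal d (pt a) (pt b) = Matrix.diagonal (fun s : D1 => d (pt s)) a b
  rw [Matrix.diagonal_apply, Matrix.diagonal_apply]
  simp only [pt_inj.eq_iff]

theorem rho_sth {i : ℕ} (hi : i < 7) (x : Kˣ) : rho K (sth chevE7 (chevE7.simple i) (x : K)) =
    Matrix.diagonal fun s : D1 => ((x ^ chevE8.cartan i (s : Fin chevE8.nroots) : Kˣ) : K) := by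
  have h0 : chevE7.simple i < chevE7.nroots := Cfsg.Agent.ChevalleyStructure.RootVec.simple_lt checked_E7 hi
  have h1 : (((H120.StSeven.alpha K (sth chevE7 (chevE7.simple i) (x : K)) : ↥(chevE8.group K)) : GL chevE8.Idx K) :
      Matrix chevE8.Idx chevE8.Idx K) = chevE8.hMat K (chevE8.simple i) (x : K) := by
    show (((theta ty_E8.ty.inList K (hom emb78 K (sth chevE7 (chevE7.simple i) (x : K))) : ↥(chevE8.group K)) :
      GL chevE8.Idx K) : Matrix chevE8.Idx chevE8.Idx K) = _
    rw [hom_sth emb78 h0, simple78 i hi,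
      theta_sth (theta ty_E8.ty.inList K) (fun r t _ => StTheta.theta_stGen ty_E8.ty.inList r t)]
  rw [rho_apply, h1, Cfsg.Agent.S1033.result (F := K) chevE8 ty_E8.ty.inList i (show i < 8 by omega) (x : K) x.ne_zero,
    blk_diagonal]
  congr 1
  funext s
  rw [Sum.elim_inr, Units.val_zpow_eq_zpow_val]

/-- the diagonal matrices of a torus -/
def dg (K : Type) [Field K] {ι : Type} [Fintype ι] [DecidableEq ι] {n : ℕ} (e : ι → Fin n → ℤ) :
    (Fin n → Kˣ) →* Matrix ι ι K where
  toFun a := Matrix.diagonal fun s : ι => ((∏ i : Fin n, a i ^ e s i : Kˣ) : K)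
  map_one' := by
    rw [← Matrix.diagonal_one]
    congr 1
    funext s
    simp
  map_mul' a b := by
    rw [Matrix.diagonal_mul_diagonal]
    congr 1
    funext s
    rw [← Units.val_mul, ← Finset.prod_mul_distrib]
    congr 1
    refine Finset.prod_congr rfl fun i _ => ?_
    rw [Pi.mul_apply, mul_zpow]

theorem dg_single {ι : Type} [Fintype ι] [DecidableEq ι] {n : ℕ} (e : ι → Fin n → ℤ) (j : Fin n) (x : Kˣ) :
    dg K e (Pi.mulSingle j x) = Matrix.diagonal fun s : ι => ((x ^ e s j : Kˣ) : K) := by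
  show Matrix.diagonal _ = _
  congr 1
  funext s
  rw [Finset.prod_eq_single j]
  · rw [Pi.mulSingle_eq_same]
  · intro i _ hij
    rw [Pi.mulSingle_eq_of_ne hij, one_zpow]
  · intro h
    exact absurd (Finset.mem_univ j) h

/-- the exponents -/
def ex (s : D1) (i : Fin chevE7.rank) : ℤ := chevE8.cartan i (s : Fin chevE8.nroots)

theorem rho_phi {Φ : (Fin chevE7.rank → Kˣ) →* chevE7.SteinbergGroup K} (hΦ : IsPhi Φ) (a : Fin chevE7.rank → Kˣ) :
    rho K (Φ a) = dg K ex a := by
  have h : (rho K).comp Φ = dg K ex := by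
    apply MonoidHom.pi_ext
    intro j x
    rw [MonoidHom.comp_apply, hΦ.single, rho_sth j.2, dg_single]
    rfl
  exact DFunLike.congr_fun h a

theorem conj_charpoly {G : Type*} [Group G] {ι : Type*} [Fintype ι] [DecidableEq ι] (r : G →* Matrix ι ι K) (g x : G) :
    (r (g * x * g⁻¹)).charpoly = (r x).charpoly := by
  have h := Matrix.charpoly_units_conj (r.toHomUnits g) (r x)
  rw [← h]
  congr 1
  rw [map_mul, map_mul]
  congr 1
  rw [← Matrix.coe_units_inv, ← map_inv]
  rfl

theorem rho_conj_charpoly (g x : chevE7.SteinbergGroup K) : (rho K (g * x * g⁻¹)).charpoly = (rho K x).charpoly :=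
  conj_charpoly _ g x

end Torus

theorem rho_stMap {F K : Type} [Field F] [Field K] (f : F →+* K) (x : chevE7.SteinbergGroup F) :
    rho K (stMap chevE7 f x) = (rho F x).map f := by
  have h : (glMap chevE8 f).comp ((chevE8.group F).subtype.comp (H120.StSeven.alpha F)) =
      ((chevE8.group K).subtype.comp (H120.StSeven.alpha K)).comp (stMap chevE7 f) := by
    apply hom_ext
    intro r hr t
    show glMap chevE8 f ((theta ty_E8.ty.inList F (hom emb78 F (chevE7.stGen F r t)) : ↥(chevE8.group F)) :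
      GL chevE8.Idx F) = ((theta ty_E8.ty.inList K (hom emb78 K (stMap chevE7 f (chevE7.stGen F r t))) :
      ↥(chevE8.group K)) : GL chevE8.Idx K)
    rw [stMap_stGen, hom_stGen emb78 hr, hom_stGen emb78 hr, coe_theta, coe_theta, thetaGL_stGen, thetaGL_stGen, glMap_xG]
  have h1 := DFunLike.congr_fun h x
  have h2 : (((H120.StSeven.alpha K (stMap chevE7 f x) : ↥(chevE8.group K)) : GL chevE8.Idx K) : Matrix chevE8.Idx chevE8.Idx K) =
      (((H120.StSeven.alpha F x : ↥(chevE8.group F)) : GL chevE8.Idx F) : Matrix chevE8.Idx chevE8.Idx F).map f := by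
    rw [← coe_glMap]
    exact congrArg Units.val h1.symm
  rw [rho_apply, h2, blk_map]
  rfl

/-! ### exponents -/

section Exp

variable {k : Type} [Field k] {N : ℕ} [NeZero N]

theorem zpow_val {z : kˣ} (hz : z ^ N = 1) (m : ℤ) : z ^ m = z ^ ((m : ZMod N).val) := by
  rw [← zpow_natCast, ZMod.val_intCast]
  have h1 : z ^ (N : ℤ) = 1 := by rw [zpow_natCast]; exact hz
  conv_lhs => rw [← Int.emod_add_mul_ediv m N]
  rw [zpow_add, zpow_mul, h1, one_zpow, mul_one]

theorem prod_pow {z : kˣ} (hz : z ^ N = 1) {n : ℕ} (a : Fin n → ℕ) (e : Fin n → ℤ) :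
    ∏ i, (z ^ a i) ^ e i = z ^ ((∑ i, (e i : ZMod N) * (a i : ZMod N)).val) := by
  have h2 : ∀ S : Finset (Fin n), ∏ i ∈ S, (z ^ a i) ^ e i = z ^ (∑ i ∈ S, e i * (a i : ℤ)) := by
    intro S
    induction S using Finset.induction_on with
    | empty => simp
    | insert b S hb ih =>
      rw [Finset.prod_insert hb, Finset.sum_insert hb, zpow_add, ih, mul_comm (e b), zpow_mul, zpow_natCast]
  rw [h2, zpow_val hz]
  congr 3
  push_cast
  rfl

theorem pow_val_mul {z : kˣ} (hz : z ^ N = 1) (b : ZMod N) (m : ℕ) : (z ^ b.val) ^ m = z ^ (((m : ZMod N) * b).val) := by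
  rw [← pow_mul]
  have h1 := zpow_val hz ((b.val * m : ℕ) : ℤ)
  rw [zpow_natCast] at h1
  rw [h1]
  congr 2
  push_cast
  rw [ZMod.natCast_zmod_val, mul_comm]

theorem dg_pow {ι : Type} [Fintype ι] [DecidableEq ι] {z : kˣ} (hz : z ^ N = 1) {n : ℕ} (e : ι → Fin n → ℤ)
    (a : Fin n → ℕ) (d : ℕ) : dg k e ((fun i => z ^ a i) ^ d) =
      Matrix.diagonal fun s : ι => (z : k) ^ (((d : ZMod N) * ∑ i, (e s i : ZMod N) * (a i : ZMod N)).val) := by
  rw [map_pow]
  show (Matrix.diagonal fun s : ι => ((∏ i : Fin n, (z ^ a i) ^ e s i : kˣ) : k)) ^ d = _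
  rw [Matrix.diagonal_pow]
  congr 1
  funext s
  show ((∏ i : Fin n, (z ^ a i) ^ e s i : kˣ) : k) ^ d = _
  rw [prod_pow hz, ← Units.val_pow_eq_pow_val, pow_val_mul hz, Units.val_pow_eq_pow_val]

/-- the multiset of the exponents of the eigenvalues of a matrix over the field of two elements is stable -/
theorem frob_ms [CharP k 2] (f : ZMod 2 →+* k) {ι : Type} [Fintype ι] [DecidableEq ι] {u : ι → ZMod N} {z : k}
    (hz : IsPrimitiveRoot z N) {P : Polynomial (ZMod 2)}
    (h : P.map f = (Matrix.diagonal fun s : ι => z ^ (u s).val).charpoly) :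
    Finset.univ.val.map u = Finset.univ.val.map fun s => 2 * u s := by
  have hfact : Fact (Nat.Prime 2) := ⟨Nat.prime_two⟩
  let φ : k →+* k := frobenius k 2
  have hφ : φ.comp f = f := Subsingleton.elim _ _
  have h2 : (Matrix.diagonal fun s : ι => z ^ (u s).val).charpoly.map φ =
      (Matrix.diagonal fun s : ι => z ^ (u s).val).charpoly := by
    rw [← h, Polynomial.map_map, hφ]
  rw [← Matrix.charpoly_map, Matrix.diagonal_map (map_zero φ)] at h2
  have h3 := diag_multiset h2
  have hinj : Function.Injective fun b : ZMod N => z ^ b.val := by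
    intro b b' hb
    exact ZMod.val_injective N (hz.pow_inj (ZMod.val_lt b) (ZMod.val_lt b') hb)
  have h4 : ∀ s : ι, (φ ∘ fun s : ι => z ^ (u s).val) s = (fun b : ZMod N => z ^ b.val) (2 * u s) := by
    intro s
    show (z ^ (u s).val) ^ 2 = z ^ (2 * u s).val
    have hzu : (hz.toRootsOfUnity : kˣ) ^ N = 1 := by
      apply Units.ext
      rw [Units.val_pow_eq_pow_val, Units.val_one]
      exact hz.pow_eq_one
    have h5 := congrArg Units.val (pow_val_mul hzu (u s) 2)
    rw [Units.val_pow_eq_pow_val, Units.val_pow_eq_pow_val, Units.val_pow_eq_pow_val] at h5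
    rw [Nat.cast_ofNat] at h5
    exact h5
  have h6 : Finset.univ.val.map (fun s : ι => φ (z ^ (u s).val)) =
      (Finset.univ.val.map fun s : ι => 2 * u s).map fun b : ZMod N => z ^ b.val := by
    rw [Multiset.map_map]
    exact Multiset.map_congr rfl fun s _ => h4 s
  have h7 : Finset.univ.val.map (fun s : ι => z ^ (u s).val) =
      (Finset.univ.val.map u).map fun b : ZMod N => z ^ b.val := by
    rw [Multiset.map_map]
    rfl
  rw [h6, h7] at h3
  exact (Multiset.map_injective hinj h3).symm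

end Exp

end Cfsg.Agent.H943.E7V.Tor
end

-- part: H943/E7V/Alc
section
/-!
# Multiplicities of the eigenvalues on the 56-dimensional module of `E₇(2)`
-/

set_option autoImplicit false
set_option maxRecDepth 100000

namespace Cfsg.Agent.H943.E7V.Alc

open Cfsg.Agent.ChevalleyStructure.CoxeterGeom Cfsg.Agent.Tits.Roots
  Cfsg.Agent.Nodes.RGDChev
open Cfsg.Lie Cfsg.Agent.ChevalleyStructure Cfsg.Agent.ChevalleyStructure.Elts
  Cfsg.Agent.ChevalleyStructure.RootVec Cfsg.Agent.ChevalleyStructure.RootVecTab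
  Cfsg.Agent.ChevalleyStructure.NPerm Cfsg.Agent.ChevalleyStructure.CoxeterGeomTypes
open Cfsg.Agent.H944.RootVals Cfsg.Agent.H944.Kac Cfsg.Agent.H944.Tab Cfsg.Agent.H944.E7Two
open Cfsg.Agent.H943.E7V.Block Cfsg.Agent.H943.E7V.Wt

/-- the multiset is stable under doubling -/
def Stab {N : ℕ} (m : Multiset (ZMod N)) : Prop := m = m.map fun a => 2 * a

theorem ms56_neg {R : Type*} [CommRing R] (v : Fin 7 → R) : (ms56 v).map (fun a => - a) = ms56 v := by
  rw [ms56_tab, Multiset.map_add, Multiset.map_coe, Multiset.map_coe, List.map_map, List.map_map, add_comm]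
  congr 2
  refine List.map_congr_left fun w _ => ?_
  simp

/-- sums over the multiset of values -/
theorem sum_ms56 {S A : Type*} [CommRing S] [AddCommMonoid A] (v : Fin 7 → S) (g : S → A) :
    ((ms56 v).map g).sum = (W28.map fun w => g (wl w v) + g (- wl w v)).sum := by
  rw [ms56_tab, Multiset.map_add, Multiset.sum_add, Multiset.map_coe, Multiset.map_coe, Multiset.sum_coe,
    Multiset.sum_coe, List.map_map, List.map_map, ← List.sum_map_add]
  rfl

/-- the value of a pair on a list, modulo `N` -/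
def tt (N : ℕ) (w : List ℕ × List ℕ) (y : List ℕ) : ℕ := dotN w.1 y + (N - 1) * dotN w.2 y

/-- the sum of `h` over the values -/
def sumW (N : ℕ) (h : ℕ → ℕ) (y : List ℕ) : ℕ := (W28.map fun w => h (tt N w y)).sum

theorem len28 : ∀ w ∈ W28, w.1.length ≤ 7 ∧ w.2.length ≤ 7 := by decide +kernel

/-- the vector of a list -/
def vecL (N : ℕ) (Y : List ℕ) : Fin 7 → ZMod N := fun i => ((Y.getD i 0 : ℕ) : ZMod N)

theorem wl_vecL {N : ℕ} (hN : 0 < N) {w : List ℕ × List ℕ} (hw : w ∈ W28) (y : List ℕ) :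
    wl w (vecL N y) = ((tt N w y : ℕ) : ZMod N) := by
  obtain ⟨h1, h2⟩ := len28 w hw
  unfold wl tt vecL crd
  rw [dotN_eq 7 _ y h1, dotN_eq 7 _ y h2]
  have h3 : ((N - 1 : ℕ) : ZMod N) = -1 := by
    rw [Nat.cast_sub (by omega), ZMod.natCast_self]; simp
  push_cast
  rw [h3, neg_one_mul, ← sub_eq_add_neg, ← Finset.sum_sub_distrib]
  refine Finset.sum_congr rfl fun i _ => ?_
  ring

theorem hh_eq {N : ℕ} (hN : 0 < N) (t : ℕ) : 256 ^ (t : ZMod N).val + 256 ^ (-(t : ZMod N)).val = hh N t := by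
  have : NeZero N := ⟨hN.ne'⟩
  rw [hh, ZMod.val_natCast]
  congr 2
  by_cases h0 : t % N = 0
  · have h3 : (t : ZMod N) = 0 := by rw [ZMod.natCast_eq_zero_iff]; exact Nat.dvd_of_mod_eq_zero h0
    rw [h3, neg_zero, ZMod.val_zero, h0, Nat.sub_zero, Nat.mod_self]
  · have h3 : (t : ZMod N) ≠ 0 := by
      intro h4
      rw [ZMod.natCast_eq_zero_iff] at h4
      exact h0 (Nat.mod_eq_zero_of_dvd h4)
    have : NeZero (t : ZMod N) := ⟨h3⟩
    rw [ZMod.val_neg_of_ne_zero, ZMod.val_natCast]
    refine (Nat.mod_eq_of_lt ?_).symm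
    have := Nat.mod_lt t hN
    omega

/-- stability under doubling, as a check -/
def invW (N : ℕ) (y : List ℕ) : Bool := Nat.beq (sumW N (hh N) y) (sumW N (fun t => hh N (2 * t)) y)

theorem invW_of {N : ℕ} (hN : 0 < N) {y : List ℕ} (h : Stab (ms56 (vecL N y))) : invW N y = true := by
  rw [invW, Nat.beq_eq]
  have h1 : ((ms56 (vecL N y)).map fun c => 256 ^ c.val).sum = ((ms56 (vecL N y)).map fun c => 256 ^ (2 * c).val).sum := by
    conv_lhs => rw [h, Multiset.map_map]
    rfl
  rw [sum_ms56, sum_ms56] at h1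
  have h2 : sumW N (hh N) y = (W28.map fun w => 256 ^ (wl w (vecL N y)).val + 256 ^ (- wl w (vecL N y)).val).sum := by
    unfold sumW
    refine congrArg List.sum (List.map_congr_left fun w hw => ?_)
    rw [wl_vecL hN hw, hh_eq hN]
  have h3 : sumW N (fun t => hh N (2 * t)) y =
      (W28.map fun w => 256 ^ (2 * wl w (vecL N y)).val + 256 ^ (2 * - wl w (vecL N y)).val).sum := by
    unfold sumW
    refine congrArg List.sum (List.map_congr_left fun w hw => ?_)
    show hh N (2 * tt N w y) = _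
    rw [wl_vecL hN hw, ← hh_eq hN]
    push_cast
    rw [mul_neg]
  rw [h2, h3]
  exact h1

/-- the number of values equal to 1 -/
def cnt (N : ℕ) (y : List ℕ) : ℕ := sumW N (fun t => (bif Nat.beq (t % N) 1 then 1 else 0) + (bif Nat.beq ((N - t % N) % N) 1 then 1 else 0)) y

theorem cnt_eq {N : ℕ} (hN : 1 < N) (y : List ℕ) : (ms56 (vecL N y)).count 1 = cnt N y := by
  classical
  have hN0 : 0 < N := by omega
  have : NeZero N := ⟨hN0.ne'⟩
  have h1 : ∀ m : Multiset (ZMod N), m.count 1 = (m.map fun a => if a = 1 then 1 else 0).sum := by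
    intro m
    induction m using Multiset.induction_on with
    | empty => simp
    | cons a m ih =>
      rw [Multiset.map_cons, Multiset.sum_cons, Multiset.count_cons, ih, add_comm]
      congr 1
      simp only [eq_comm]
  rw [h1, sum_ms56]
  unfold cnt sumW
  refine congrArg List.sum (List.map_congr_left fun w hw => ?_)
  rw [wl_vecL hN0 hw]
  generalize tt N w y = t
  have h3 : ∀ t : ℕ, ((t : ZMod N) = 1) ↔ t % N = 1 := by
    intro t
    have h4 := ZMod.natCast_eq_natCast_iff' t 1 N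
    rw [Nat.cast_one, Nat.mod_eq_of_lt hN] at h4
    exact h4
  have h5 : (-(t : ZMod N)) = (((N - t % N) % N : ℕ) : ZMod N) := by
    rw [ZMod.natCast_mod, Nat.cast_sub (Nat.mod_lt t hN0).le, ZMod.natCast_self, ZMod.natCast_mod, zero_sub]
  have h6 : ∀ a : ℕ, (bif Nat.beq a 1 then 1 else 0) = (if a = 1 then 1 else 0 : ℕ) := by
    intro a
    by_cases h : a = 1
    · rw [if_pos h, h]; rfl
    · rw [if_neg h]
      have : Nat.beq a 1 = false := by
        cases hb : Nat.beq a 1 with
        | false => rfl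
        | true => exact absurd (Nat.eq_of_beq_eq_true hb) h
      rw [this]; rfl
  show _ = (bif (t % N).beq 1 then 1 else 0) + (bif ((N - t % N) % N).beq 1 then 1 else 0)
  rw [h6, h6, h5]
  simp only [h3, Nat.mod_mod]

/-- the check for the order `N` -/
def chkN (N : ℕ) (L : List ℕ) : Bool := allAlc th7 N fun y =>
  bif invW N y then ((y.all fun x => Nat.beq (x % N) 0) || L.contains (cnt N y)) else true

private theorem chkN_eq : chkN = fun N L => alcS th7 N fun y => bif invS N 2 (W28.map fun w => zpS (N - 1) w.1 w.2) y then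
    ((y.all fun x => Nat.beq (x % N) 0) || L.contains (cnt N y)) else true := by
  funext N L
  rw [← alcS_eq, ← invS_eq]
  have h : ∀ (g : ℕ → ℕ) (y : List ℕ), sumW N g y = sumH g (W28.map fun w => zpS (N - 1) w.1 w.2) y := fun g y => by
    rw [sumH_eq, List.map_map]
    exact congrArg List.sum (List.map_congr_left fun w _ => congrArg g (zpS_dot _ _ _ _).symm)
  delta chkN invW invB
  simp only [h]

theorem chk3 : chkN 3 [27, 21, 18, 12] = true := by
  rw [chkN_eq]
  decide +kernel

theorem chk5 : chkN 5 [10] = true := by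
  rw [chkN_eq]
  decide +kernel

theorem chk7 : chkN 7 [9, 8, 6] = true := by
  rw [chkN_eq]
  decide +kernel

theorem chk13 : chkN 13 [4] = true := by
  rw [chkN_eq]
  decide +kernel

/-- the multiplicity of the value 1 -/
theorem count_mem {N : ℕ} (hN : 1 < N) {L : List ℕ} (hL : chkN N L = true) {v : Fin 7 → ZMod N} (hv : v ≠ 0)
    (hs : Stab (ms56 v)) : (ms56 v).count 1 ∈ L := by
  classical
  have hN0 : 0 < N := by omega
  let P : (Fin 7 → ZMod N) → Prop := fun w => ms56 w = ms56 v ∧ w ≠ 0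
  have hPs : ∀ w j, P w → P (srefl chevE7 7 j w) := by
    rintro w j ⟨h1, h2⟩
    refine ⟨by rw [ms56_srefl, h1], fun h => h2 (srefl_eq_zero e7T h)⟩
  obtain ⟨y, ⟨hy, hy0⟩, hθ⟩ := exists_alcove e7T (N := N) hN0 _ _ 36 (by norm_num) theta7
    (by decide) _ pos7 P hPs (v₀ := v) ⟨rfl, hv⟩
  let Y : List ℕ := List.ofFn y
  have hY : ∀ i : Fin 7, Y.getD i 0 = y i := by
    intro i
    rw [List.getD_eq_getElem _ _ (by rw [List.length_ofFn]; exact i.2), List.getElem_ofFn]
  have h1 : dotN th7 Y ≤ N := by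
    rw [dotN_eq 7 th7 Y (by decide)]
    have h2 : ∑ i : Fin 7, th7.getD i 0 * Y.getD i 0 = ∑ i : Fin 7, th7.getD i 0 * y i :=
      Finset.sum_congr rfl fun i _ => by rw [hY]
    rw [h2]
    simp only [Fin.sum_univ_seven, Matrix.cons_val] at hθ ⊢
    simp only [th7, List.getD_cons_zero, List.getD_cons_succ, Fin.val_zero, Fin.val_one, Fin.val_two] at hθ ⊢
    norm_num at hθ ⊢
    omega
  have h2 := allAlc_spec th7 N _ (by decide) hL Y (by simp [Y, th7]) h1
  have h3 : vecL N Y = fun i => ((y i : ℕ) : ZMod N) := by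
    funext i
    unfold vecL
    rw [hY]
  rw [← h3] at hy hy0
  rw [← hy] at hs ⊢
  rw [invW_of hN0 hs, cond_true, Bool.or_eq_true] at h2
  rcases h2 with h2 | h2
  · exfalso
    apply hy0
    funext i
    rw [List.all_eq_true] at h2
    have h4 := h2 (Y.getD i 0) (by
      rw [List.getD_eq_getElem _ _ (by rw [List.length_ofFn]; exact i.2)]
      exact List.getElem_mem _)
    rw [Nat.beq_eq] at h4
    show ((Y.getD i 0 : ℕ) : ZMod N) = 0
    rw [ZMod.natCast_eq_zero_iff]
    exact Nat.dvd_of_mod_eq_zero h4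
  · rw [cnt_eq hN]
    simpa using h2

end Cfsg.Agent.H943.E7V.Alc
end

-- part: H943/E7V/TorMain
section
/-!
# The representation of degree 56 of `E₇(2)` and the eigenvalues of its elements of odd order
-/

set_option autoImplicit false
set_option linter.unusedSectionVars false

namespace Cfsg.Agent.H943.E7V.TorMain

open CoxeterSystem Cfsg Cfsg.Lie Cfsg.Lie.ChevalleyDatum
open Cfsg.Agent.ChevalleyStructure Cfsg.Agent.ChevalleyStructure.Elts Cfsg.Agent.ChevalleyStructure.CoxeterGeom
  Cfsg.Agent.ChevalleyStructure.CoxeterGeomTypes Cfsg.Agent.ChevalleyStructure.NPerm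
  Cfsg.Agent.ChevalleyStructure.RootVec Cfsg.Agent.ChevalleyStructure.RootVecTab
open Cfsg.Agent.Tits.Roots Cfsg.Agent.Tits.Core Cfsg.Agent.Nodes Cfsg.Agent.Nodes.Reps Cfsg.Agent.Nodes.BNOf
  Cfsg.Agent.Nodes.RGDChev
open Cfsg.Agent.KFacts.RgdChevCoord Cfsg.Agent.GpExc.Field Cfsg.Agent.H129.TorusUntw
open Cfsg.Agent.ChevalleyStructure.StBasic Cfsg.Agent.ChevalleyStructure.StTheta Cfsg.Agent.ChevalleyStructure.StEmbed
open Cfsg.Agent.H129.StCover Cfsg.Agent.BpExc.TorAll Cfsg.Agent.KFacts.En.Roots Cfsg.Agent.H120.StSeven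
open Cfsg.Agent.H944.RootVals Cfsg.Agent.H944.E7Two
open Cfsg.Agent.H943.E7V.Block Cfsg.Agent.H943.E7V.Wt Cfsg.Agent.H943.E7V.Tor Cfsg.Agent.H943.E7V.Alc
open Polynomial (X C)

theorem center_bot : Subgroup.center (chevE7.SteinbergGroup (ZMod 2)) = ⊥ := by
  have hcent := Cfsg.Agent.S1079.result (K := ZMod 2) rfl (chevE7, 2) (by simp)
  change Nat.card (Subgroup.center (chevE7.SteinbergGroup (ZMod 2))) = _ at hcent
  rw [ZMod.card] at hcent
  exact Subgroup.eq_bot_of_card_eq _ hcent

theorem theta_bij : Function.Bijective (theta e7T.inList (ZMod 2)) := by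
  refine ⟨?_, theta_surjective _⟩
  rw [← MonoidHom.ker_eq_bot_iff, ker_theta e7T.inList, center_bot]

/-- the presented group over the field of two elements is `E₇(2)` -/
noncomputable def eqv : chevE7.SteinbergGroup (ZMod 2) ≃* ↥(chevE7.group (ZMod 2)) :=
  MulEquiv.ofBijective (theta e7T.inList (ZMod 2)) theta_bij

/-- the representation of `E₇(2)` of degree 56 -/
noncomputable def RR : ↥(chevE7.group (ZMod 2)) →* Matrix D1 D1 (ZMod 2) :=
  (rho (ZMod 2)).comp (eqv.symm : ↥(chevE7.group (ZMod 2)) →* chevE7.SteinbergGroup (ZMod 2))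

theorem sum_ex {N : ℕ} (a : Fin 7 → ℕ) (s : D1) :
    (2 : ZMod N) * ∑ i : Fin 7, (ex s i : ZMod N) * (a i : ZMod N) =
      wv (fun j : Fin 7 => ∑ i : Fin 7, ((chevE7.cartan i (chevE7.simple j) : ℤ) : ZMod N) * (a i : ZMod N))
        (s : Fin chevE8.nroots) := by
  unfold wv
  rw [Finset.mul_sum]
  have h1 : ∀ i : Fin 7, (2 : ZMod N) * ((ex s i : ZMod N) * (a i : ZMod N)) =
      ∑ j : Fin 7, ((cc (s : Fin chevE8.nroots) j : ℤ) : ZMod N) *
        (((chevE7.cartan i (chevE7.simple j) : ℤ) : ZMod N) * (a i : ZMod N)) := by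
    intro i
    have h2 := pair_eq' s i
    have h3 := congrArg (fun m : ℤ => (m : ZMod N) * (a i : ZMod N)) h2
    simp only [Int.cast_sum, Int.cast_mul, Int.cast_ofNat, Finset.sum_mul] at h3
    rw [← mul_assoc]
    refine Eq.trans ?_ (h3.symm.trans (Finset.sum_congr rfl fun j _ => mul_assoc _ _ _))
    rfl
  rw [Finset.sum_congr rfl fun i _ => h1 i, Finset.sum_comm]
  refine Finset.sum_congr rfl fun j _ => ?_
  rw [Finset.mul_sum]

theorem sum_root {N : ℕ} (a : Fin 7 → ℕ) {s : ℕ} (hs : s < chevE7.nroots) :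
    ∑ i : Fin 7, ((chevE7.cartan i s : ℤ) : ZMod N) * (a i : ZMod N) =
      ∑ j : Fin 7, ((rt chevE7 s j : ℤ) : ZMod N) *
        ∑ i : Fin 7, ((chevE7.cartan i (chevE7.simple j) : ℤ) : ZMod N) * (a i : ZMod N) := by
  have h3 : ∀ i : Fin 7, ((chevE7.cartan i s : ℤ) : ZMod N) * (a i : ZMod N) =
      ∑ j : Fin 7, ((rt chevE7 s j : ℤ) : ZMod N) *
        (((chevE7.cartan i (chevE7.simple j) : ℤ) : ZMod N) * (a i : ZMod N)) := by
    intro i
    have h4 := cartan_eq_sum checked_E7 (show (i : ℕ) < 7 from i.2) hs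
    rw [show chevE7.rank = 7 from rfl, Finset.sum_range] at h4
    rw [h4]
    push_cast
    rw [Finset.sum_mul]
    exact Finset.sum_congr rfl fun j _ => mul_assoc _ _ _
  rw [Finset.sum_congr rfl fun i _ => h3 i, Finset.sum_comm]
  refine Finset.sum_congr rfl fun j _ => ?_
  rw [Finset.mul_sum]

/-- **Eigenvalues on the 56-dimensional module.** -/
theorem exists_st {x : chevE7.SteinbergGroup (ZMod 2)} {N : ℕ} (hN0 : N ≠ 0) (hN : N.Coprime 2) (hx : x ^ N = 1) :
    ∃ v : Fin 7 → ZMod N, (v = 0 → x = 1) ∧ Stab (ms56 v) ∧ ∃ ζ : AlgebraicClosure (ZMod 2), IsPrimitiveRoot ζ N ∧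
      ∀ d : ℕ, ((rho (ZMod 2) (x ^ d)).charpoly).map (algebraMap (ZMod 2) (AlgebraicClosure (ZMod 2))) =
        ((ms56 v).map (fun a => X - C (ζ ^ (((d : ZMod N) * a).val)))).prod := by
  classical
  have : NeZero N := ⟨hN0⟩
  have hfact : Fact (Nat.Prime 2) := ⟨Nat.prime_two⟩
  set k := AlgebraicClosure (ZMod 2) with hk
  have hkch : CharP k 2 := charP_of_injective_algebraMap (algebraMap (ZMod 2) k).injective 2
  have hk' : HAlg 2 k := hAlg_closure 2 (ZMod 2)
  set f : ZMod 2 →+* k := algebraMap (ZMod 2) k with hf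
  obtain ⟨Φ, hΦ⟩ := Cfsg.Agent.H129.PhiE.isPhi_E7 k
  set y : chevE7.SteinbergGroup k := stMap chevE7 f x with hy
  have hyN : y ^ N = 1 := by rw [hy, ← map_pow, hx, map_one]
  set x' : ↥(chevE7.group k) := theta e7T.inList k y with hx'
  have hxN : x' ^ N = 1 := by rw [hx', ← map_pow, hyN, map_one]
  obtain ⟨g, hg⟩ := Cfsg.Agent.H944.TorAnyChev.exists_conj_mem_TT e7T 2 hk' hN0 hN hxN
  obtain ⟨a, ha⟩ := exists_theta_phi hΦ e7T hg
  obtain ⟨g', hg'⟩ := theta_surjective e7T.inList g
  -- the conjugate of `y` is in the image of `Φ`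
  obtain ⟨c, hc⟩ : ∃ c, Φ c = g' * y * g'⁻¹ := by
    have h1 : (Φ a)⁻¹ * (g' * y * g'⁻¹) ∈ (theta e7T.inList k).ker := by
      rw [MonoidHom.mem_ker, map_mul, map_inv, ha, map_mul, map_mul, map_inv, hg', inv_mul_cancel]
    rw [ker_theta e7T.inList] at h1
    obtain ⟨b, hb⟩ := hΦ.center_le h1
    exact ⟨a * b, by rw [map_mul, hb, mul_inv_cancel_left]⟩
  have hcN : c ^ N = 1 := by
    apply hΦ.inj
    rw [map_pow, hc, conj_pow, hyN, mul_one, mul_inv_cancel, map_one]
  -- a primitive root of unity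
  have hNk : ((N : ℕ) : k) ≠ 0 := by
    intro h0
    have h1 : 2 ∣ N := (CharP.cast_eq_zero_iff k 2 N).1 h0
    have h2 : 2 ∣ 1 := by
      rw [← hN]
      exact Nat.dvd_gcd h1 dvd_rfl
    omega
  have : NeZero ((N : ℕ) : k) := ⟨hNk⟩
  obtain ⟨ζ, hζ⟩ : ∃ ζ : k, IsPrimitiveRoot ζ N := HasEnoughRootsOfUnity.exists_primitiveRoot k N
  set z : kˣ := (hζ.toRootsOfUnity : kˣ) with hz
  have hzc : (z : k) = ζ := rfl
  have hzN : z ^ N = 1 := by
    apply Units.ext
    rw [Units.val_pow_eq_pow_val, Units.val_one]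
    exact hζ.pow_eq_one
  have hex : ∀ j, ∃ a : ℕ, z ^ a = c j := by
    intro j
    have h1 : ((c j : kˣ) : k) ^ N = 1 := by
      rw [← Units.val_pow_eq_pow_val, ← Pi.pow_apply, hcN, Pi.one_apply, Units.val_one]
    obtain ⟨a, -, ha⟩ := hζ.eq_pow_of_pow_eq_one h1
    refine ⟨a, Units.ext ?_⟩
    rw [Units.val_pow_eq_pow_val, ← ha]
    rfl
  choose a' ha' using hex
  have hc' : c = fun i => z ^ a' i := (funext ha').symm
  let u : D1 → ZMod N := fun s => ∑ i, (ex s i : ZMod N) * (a' i : ZMod N)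
  have hch : ∀ d : ℕ, ((rho (ZMod 2) (x ^ d)).charpoly).map f =
      (Matrix.diagonal fun s : D1 => ζ ^ (((d : ZMod N) * u s).val)).charpoly := by
    intro d
    have h1 : rho k (y ^ d) = (rho (ZMod 2) (x ^ d)).map f := by
      rw [hy, ← map_pow]
      exact rho_stMap f (x ^ d)
    have h2 : Φ (c ^ d) = g' * y ^ d * g'⁻¹ := by rw [map_pow, hc, conj_pow]
    have h3 := rho_conj_charpoly g' (y ^ d)
    rw [← h2, rho_phi hΦ, hc', dg_pow hzN, h1, Matrix.charpoly_map] at h3
    exact h3.symm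
  let v : Fin 7 → ZMod N := fun j => ∑ i : Fin 7, ((chevE7.cartan i (chevE7.simple j) : ℤ) : ZMod N) * (a' i : ZMod N)
  have hms2 : ms56 v = Finset.univ.val.map fun s => 2 * u s := by
    unfold ms56
    exact Multiset.map_congr rfl fun s _ => (sum_ex a' s).symm
  have hfr : Finset.univ.val.map u = Finset.univ.val.map fun s => 2 * u s := by
    refine frob_ms f hζ (P := (rho (ZMod 2) x).charpoly) ?_
    have h1 := hch 1
    rw [pow_one] at h1
    rw [h1]
    simp only [Nat.cast_one, one_mul]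
  have hms : ms56 v = Finset.univ.val.map u := hms2.trans hfr.symm
  refine ⟨v, ?_, ?_, ζ, hζ, ?_⟩
  · intro hv
    have h1 : Φ c ∈ Subgroup.center (chevE7.SteinbergGroup k) := by
      rw [hΦ.mem_iff]
      intro s hs
      rw [hc', prod_pow hzN]
      have h2 : ∑ i : Fin chevE7.rank, ((chevE7.cartan i s : ℤ) : ZMod N) * (a' i : ZMod N) =
          ∑ j : Fin 7, ((rt chevE7 s j : ℤ) : ZMod N) * v j := sum_root a' hs
      rw [h2, hv]
      simp
    rw [← ker_theta e7T.inList, MonoidHom.mem_ker, hc, map_mul, map_mul, map_inv, conj_eq_one_iff] at h1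
    rw [hy, theta_stMap f e7T.inList] at h1
    have h2 : theta e7T.inList (ZMod 2) x = 1 := emb_injective e7T.inList f (by rw [h1, map_one])
    exact theta_bij.1 (by rw [h2, map_one])
  · unfold Stab
    rw [hms, Multiset.map_map]
    exact hfr
  · intro d
    rw [hch d, Matrix.charpoly_diagonal, hms, Multiset.map_map]
    rfl

/-- **Eigenvalues on the 56-dimensional module.** -/
theorem exists_ms {x : ↥(chevE7.group (ZMod 2))} {N : ℕ} (hN0 : N ≠ 0) (hN : N.Coprime 2) (hx : x ^ N = 1)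
    (K : Type) [Field K] [IsAlgClosed K] [Algebra (ZMod 2) K] :
    ∃ v : Fin 7 → ZMod N, (v = 0 → x = 1) ∧ Stab (ms56 v) ∧ ∃ ζ : K, IsPrimitiveRoot ζ N ∧
      ∀ d : ℕ, ((RR (x ^ d)).charpoly).map (algebraMap (ZMod 2) K) =
        ((ms56 v).map (fun a => X - C (ζ ^ (((d : ZMod N) * a).val)))).prod := by
  have hx' : (eqv.symm x) ^ N = 1 := by rw [← map_pow, hx, map_one]
  obtain ⟨v, h1, h2, ζ, hζ, h3⟩ := exists_st hN0 hN hx'
  let ψ : AlgebraicClosure (ZMod 2) →ₐ[ZMod 2] K := IsAlgClosed.lift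
  have hψ : ψ.toRingHom.comp (algebraMap (ZMod 2) (AlgebraicClosure (ZMod 2))) = algebraMap (ZMod 2) K :=
    Subsingleton.elim _ _
  refine ⟨v, fun hv => ?_, h2, ψ ζ, hζ.map_of_injective ψ.toRingHom.injective, fun d => ?_⟩
  · have h4 := h1 hv
    exact eqv.symm.injective (by rw [h4, map_one])
  · have h4 := congrArg (Polynomial.map ψ.toRingHom) (h3 d)
    rw [Polynomial.map_map, hψ] at h4
    have h5 : RR (x ^ d) = rho (ZMod 2) (eqv.symm x ^ d) := by
      show rho (ZMod 2) (eqv.symm (x ^ d)) = _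
      rw [map_pow]
    rw [h5, h4, Polynomial.map_multiset_prod, Multiset.map_map]
    congr 1
    refine Multiset.map_congr rfl fun a _ => ?_
    simp only [Function.comp_apply, Polynomial.map_sub, Polynomial.map_X, map_pow, Polynomial.map_pow,
      Polynomial.map_C]
    rfl

end Cfsg.Agent.H943.E7V.TorMain
end

private theorem dce_e71dd844446b : _root_.True := by
  try have : _root_.True := by simp only [_root_.Cfsg.Agent.H943.E7V.Alc.invW.eq_1]
  exact _root_.True.intro
end
end
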