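import Cfsg.Agent.H657.IBrBlock
import Cfsg.Agent.Blocks.ExistsModular
import Cfsg.Agent.Prune
set_option linter.all false
prune_inst 0x7f00000000000000000000000000000000000000000000000000000000000000000000000000000000000000000000000000000000000000000000000000000000000000000000000000000000000000003fffffffffffffffffffffffffffbeffbdffffffff
open scoped Cfsg.Agent.FastGrp

/-!
# Subgroups of `E₇(2)` and the 56-dimensional module (S5770): the interface

`Vals σ` : the representation `σ` of degree 56 over the residue field (characteristic 2) has the Brauer values of the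
56-dimensional module of `E₇(2)` at the elements of order 3, 5, 7, 13, 15.
`Adm S`  : the group `S` has such a representation.  `Adm` passes to subgroups.
-/

set_option autoImplicit false

namespace Cfsg.Agent.H943.E7V

open Cfsg IsLocalRing Module Cfsg.Agent.H657

/-- the Brauer values of the 56-dimensional module of `E₇(2)` on elements of small odd order -/
structure Vals {V : ValuationSubring ℂ} {S : Type*} [Group S]
    (σ : Representation (ResidueField V) S (Fin 56 → ResidueField V)) : Prop where
  one : bc 2 σ 1 = 56
  three : ∀ g, orderOf g = 3 → bc 2 σ g = 2 ∨ bc 2 σ g = 20 ∨ bc 2 σ g = -7 ∨ bc 2 σ g = -25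
  five : ∀ g, orderOf g = 5 → bc 2 σ g = 6
  seven : ∀ g, orderOf g = 7 → bc 2 σ g = 14 ∨ bc 2 σ g = 0 ∨ bc 2 σ g = -7
  thirteen : ∀ g, orderOf g = 13 → bc 2 σ g = 4
  /-- the values at the elements of order 15 are integers, the same for all generators of the cyclic group -/
  fifteen : ∀ g, orderOf g = 15 → ∃ m : ℤ, ∀ j : ℕ, Nat.Coprime j 15 → bc 2 σ (g ^ j) = m
  /-- the same for the elements of order 3 and 7 -/
  three_inv : ∀ g, orderOf g = 3 → bc 2 σ g⁻¹ = bc 2 σ g
  seven_pow : ∀ g, orderOf g = 7 → ∀ j : ℕ, Nat.Coprime j 7 → bc 2 σ (g ^ j) = bc 2 σ g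

/-- `S` has a representation of degree 56 in characteristic 2 with the Brauer values of the 56-dimensional module of
`E₇(2)` -/
def Adm (S : Type*) [Group S] : Prop :=
  ∃ (M : Ideal AlgInt) (V : ValuationSubring ℂ), IsPModular 2 M ∧ Above M V ∧
    ∃ σ : Representation (ResidueField V) S (Fin 56 → ResidueField V), Vals σ

/-- `Adm` passes to subgroups -/
theorem Adm.comap {S T : Type*} [Group S] [Group T] (h : Adm S) (f : T →* S) (hf : Function.Injective f) : Adm T := by
  obtain ⟨M, V, hM, hV, σ, H⟩ := h
  have ho : ∀ g, orderOf (f g) = orderOf g := fun g => orderOf_injective f hf g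
  refine ⟨M, V, hM, hV, σ.comp f, ?_, fun g hg => ?_, fun g hg => ?_, fun g hg => ?_, fun g hg => ?_, fun g hg => ?_,
    fun g hg => ?_, fun g hg j hj => ?_⟩
  · have := H.one
    rw [← map_one f] at this
    exact this
  · exact H.three (f g) (by rw [ho, hg])
  · exact H.five (f g) (by rw [ho, hg])
  · exact H.seven (f g) (by rw [ho, hg])
  · exact H.thirteen (f g) (by rw [ho, hg])
  · obtain ⟨m, hm⟩ := H.fifteen (f g) (by rw [ho, hg])
    refine ⟨m, fun j hj => ?_⟩
    have := hm j hj
    rw [← map_pow] at this
    exact this
  · have := H.three_inv (f g) (by rw [ho, hg])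
    rw [← map_inv] at this
    exact this
  · have := H.seven_pow (f g) (by rw [ho, hg]) j hj
    rw [← map_pow] at this
    exact this

end Cfsg.Agent.H943.E7V
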